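import Groth.Agent.BigSiteLib.APull
import Groth.Agent.HTopCov.VFromH
import Groth.Agent.HTopCov.Misc
import Groth.Agent.S7190
import Groth.Agent.H0PBC.BigSite

/-!
# Pullback from the small etale site to the big h and ph sites
-/

set_option autoImplicit false

universe w u

open CategoryTheory CategoryTheory.Limits AlgebraicGeometry Opposite HTop

namespace Groth.Agent.BigSiteLib.VPull

set_option backward.isDefEq.respectTransparency false
set_option backward.isDefEq.respectTransparency.types false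

variable {S : Scheme.{u}}

theorem isVCover_of_isPhCover {T : Scheme.{u}} {E : PreZeroHypercover.{w} T} (h : IsPhCover E) : IsVCover E :=
  fun U => by
    obtain ⟨F, hF, hr⟩ := h.2 U
    exact ⟨F, HTopCov.standardV_of_standardPh F hF, hr⟩

/-- V coverings detect open subsets -/
theorem isOpen_of_isVCover {T : Scheme.{u}} (E : PreZeroHypercover.{w} T) (hE : IsVCover E) (A : Set T)
    (hA : ∀ i, IsOpen ((E.f i) ⁻¹' A)) : IsOpen A := by
  rw [← isClosed_compl_iff, TopologicalSpace.IsOpenCover.isClosed_iff_coe_preimage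
    (U := fun U : T.affineOpens => U.1) (iSup_affineOpens_eq_top T)]
  intro U
  obtain ⟨F, hF, hr⟩ := hE U
  refine HTopCov.isClosed_of_standardV F hF _ fun j => ?_
  obtain ⟨i, k, hk⟩ := hr j
  have e : F.f j ⁻¹' (((↑) : U.1 → T) ⁻¹' Aᶜ) = k ⁻¹' ((E.f i) ⁻¹' Aᶜ) := by
    ext x
    change U.1.ι (F.f j x) ∈ Aᶜ ↔ E.f i (k x) ∈ Aᶜ
    rw [← Scheme.Hom.comp_apply, ← Scheme.Hom.comp_apply, hk]
  rw [e]
  exact (IsOpen.isClosed_compl (hA i)).preimage k.continuous

/-- etale-induced presheaves descend along V coverings -/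
theorem isSheafFor_of_isVCover {P : (Over S)ᵒᵖ ⥤ Type (u + 1)} (hP : EtInd.EtInduced P) {Y : Over S}
    (E : PreZeroHypercover.{w} Y.left) (hE : IsVCover E) :
    Presieve.IsSheafFor P (Presieve.ofArrows (fun i => Over.mk (E.f i ≫ Y.hom))
      (fun i => (Over.homMk (E.f i) rfl : _ ⟶ Y))) := by
  rw [Presieve.isSheafFor_iff_generate]
  refine EtInd.isSheafFor_fam hP (T := fun i => Over.mk (E.f i ≫ Y.hom)) (fun i => Over.homMk (E.f i) rfl)
    (fun y => ?_) (fun V k hk A hA => ?_) _
    fun i => Sieve.le_generate _ _ _ (Presieve.ofArrows.mk (f := fun i => (Over.homMk (E.f i) rfl : Over.mk (E.f i ≫ Y.hom) ⟶ Y)) i)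
  · obtain ⟨i, x, hx⟩ := HTopCov.exists_point_of_hasValLift E (HTopCov.hasValLift_of_isVCover hE) y
    exact ⟨i, x, hx⟩
  · exact isOpen_of_isVCover (E.pullback₁ k.left) (HTopCov.isVCover_pullback₁ k.left E hE) A hA

/-- etale-induced presheaves are sheaves for the topologies generated by V coverings -/
theorem le_descTop {P : (Over S)ᵒᵖ ⥤ Type (u + 1)} (hP : EtInd.EtInduced P) {T : Scheme.{u}}
    (E : PreZeroHypercover.{w} T) (hE : IsVCover E) :
    Sieve.generate E.presieve₀ ∈ HTopCov.OverCrit.descTop (Sheaf.finestTopologySingle P) T :=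
  HTopCov.VFromH.mem_descTop E fun Y c =>
    isSheafFor_of_isVCover hP (E.pullback₁ c) (HTopCov.isVCover_pullback₁ c E hE)

theorem isSheaf_jh {P : (Over S)ᵒᵖ ⥤ Type (u + 1)} (hP : EtInd.EtInduced P) : Presieve.IsSheaf (Jh S) P := by
  refine HTopCov.VFromH.isSheaf_of_le ?_
  rw [hTopology, Precoverage.toGrothendieck_le_iff_le_toPrecoverage]
  intro X R hR
  rw [GrothendieckTopology.mem_toPrecoverage_iff]
  obtain ⟨E, hE, rfl⟩ := PreZeroHypercoverFamily.mem_precoverage_iff.mp hR
  exact le_descTop hP E hE.2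

theorem isSheaf_jph {P : (Over S)ᵒᵖ ⥤ Type (u + 1)} (hP : EtInd.EtInduced P) : Presieve.IsSheaf (Jph S) P := by
  refine HTopCov.VFromH.isSheaf_of_le ?_
  rw [phTopology, Precoverage.toGrothendieck_le_iff_le_toPrecoverage]
  intro X R hR
  rw [GrothendieckTopology.mem_toPrecoverage_iff]
  obtain ⟨E, hE, rfl⟩ := PreZeroHypercoverFamily.mem_precoverage_iff.mp hR
  exact le_descTop hP E (isVCover_of_isPhCover hE)

theorem etale_le_ph : QuotSh.J Scheme.etalePrecoverage S ≤ Jph S := by
  refine fun _ _ h => Precoverage.toGrothendieck_mono (fun X R hR => ?_) _ h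
  obtain ⟨𝒰, rfl⟩ := (Precoverage.mem_iff_exists_zeroHypercover (J := Scheme.etalePrecoverage)).1 hR
  have hm := (Scheme.presieve₀_mem_precoverage_iff 𝒰.toPreZeroHypercover).1 𝒰.mem₀
  rw [presieve₀_mem_phPrecoverage_iff]
  haveI : ∀ i, Etale (𝒰.f i) := hm.2
  exact S7190.result 𝒰.toPreZeroHypercover (fun i => inferInstance) (fun i => inferInstance)
    fun t => by obtain ⟨i, x, hx⟩ := hm.1 t; exact ⟨i, x, hx⟩

theorem etale_le_h : QuotSh.J Scheme.etalePrecoverage S ≤ Jh S := by
  refine fun _ _ h => Precoverage.toGrothendieck_mono (fun X R hR => ?_) _ h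
  obtain ⟨𝒰, rfl⟩ := (Precoverage.mem_iff_exists_zeroHypercover (J := Scheme.etalePrecoverage)).1 hR
  have hm := (Scheme.presieve₀_mem_precoverage_iff 𝒰.toPreZeroHypercover).1 𝒰.mem₀
  rw [presieve₀_mem_hPrecoverage_iff]
  haveI : ∀ i, Etale (𝒰.f i) := hm.2
  refine ⟨fun i => inferInstance, isVCover_of_isPhCover (S7190.result 𝒰.toPreZeroHypercover
    (fun i => inferInstance) (fun i => inferInstance) fun t => ?_)⟩
  obtain ⟨i, x, hx⟩ := hm.1 t
  exact ⟨i, x, hx⟩

section Generic

variable (F : EtCoh.Ab S) (J : GrothendieckTopology (Over S)) [(EtFppf.a S).IsContinuous S.smallEtaleTopology J]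
  [((EtFppf.a S).sheafPushforwardContinuous AddCommGrpCat.{u + 1} S.smallEtaleTopology J).IsRightAdjoint]
  (hle : QuotSh.J Scheme.etalePrecoverage S ≤ J) (hsh : Presieve.IsSheaf J (piP F))

/-- the pullback to the big etale site as a sheaf for `J` -/
noncomputable abbrev piJ : Sheaf J AddCommGrpCat.{u + 1} :=
  ⟨((BigSite.piEtPull Scheme.etalePrecoverage S).obj F).obj,
    (Presheaf.isSheaf_iff_isSheaf_forget _ _ (forget AddCommGrpCat.{u + 1})).2
      ((isSheaf_iff_isSheaf_of_type _ _).2 hsh)⟩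

/-- a `J` sheaf as a big etale sheaf -/
noncomputable abbrev toEtJ (G : Sheaf J AddCommGrpCat.{u + 1}) :
    Sheaf (QuotSh.J Scheme.etalePrecoverage S) AddCommGrpCat.{u + 1} :=
  ⟨G.obj, fun A => Presieve.isSheaf_of_le _ hle (G.property A)⟩

/-- the pullback functor to the site of `J` -/
noncomputable abbrev pullJ : EtCoh.Ab S ⥤ Sheaf J AddCommGrpCat.{u + 1} :=
  (EtFppf.a S).sheafPullback AddCommGrpCat.{u + 1} S.smallEtaleTopology J

/-- its adjunction -/
noncomputable abbrev adjJ := (EtFppf.a S).sheafAdjunctionContinuous AddCommGrpCat.{u + 1} S.smallEtaleTopology J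

include hle hsh in
theorem pull_iso : Nonempty ((pullJ J).obj F ≅ piJ F J hsh) := by
  let hom : (pullJ J).obj F ⟶ piJ F J hsh := ((adjJ J).homEquiv F (piJ F J hsh)).symm
    (ObjectProperty.homMk ((BigSite.piEtAdj Scheme.etalePrecoverage S).unit.app F).hom)
  let inv : piJ F J hsh ⟶ (pullJ J).obj F :=
    ObjectProperty.homMk (((BigSite.piEtAdj Scheme.etalePrecoverage S).homEquiv F (toEtJ J hle ((pullJ J).obj F))).symm
      (ObjectProperty.homMk ((adjJ J).unit.app F).hom)).hom
  have r1 : ∀ V : S.Etale, ((adjJ J).unit.app F).hom.app (op V) ≫ hom.hom.app (op ((EtFppf.a S).obj V)) =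
      ((BigSite.piEtAdj Scheme.etalePrecoverage S).unit.app F).hom.app (op V) := fun V => by
    have h := ((adjJ J).homEquiv F (piJ F J hsh)).apply_symm_apply
      (ObjectProperty.homMk ((BigSite.piEtAdj Scheme.etalePrecoverage S).unit.app F).hom)
    rw [Adjunction.homEquiv_unit] at h
    exact congr(($h).hom.app (op V))
  have r2 : ∀ V : S.Etale, ((BigSite.piEtAdj Scheme.etalePrecoverage S).unit.app F).hom.app (op V) ≫
      inv.hom.app (op ((EtFppf.a S).obj V)) = ((adjJ J).unit.app F).hom.app (op V) := fun V => by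
    have h := ((BigSite.piEtAdj Scheme.etalePrecoverage S).homEquiv F (toEtJ J hle ((pullJ J).obj F))).apply_symm_apply
      (ObjectProperty.homMk ((adjJ J).unit.app F).hom)
    rw [Adjunction.homEquiv_unit] at h
    exact congr(($h).hom.app (op V))
  let e : (pullJ J).obj F ≅ piJ F J hsh :=
    { hom := hom
      inv := inv
      hom_inv_id := ((adjJ J).homEquiv F _).injective (by
        rw [Adjunction.homEquiv_unit, Adjunction.homEquiv_unit]
        ext1; ext1; funext V
        show ((adjJ J).unit.app F).hom.app V ≫ hom.hom.app _ ≫ inv.hom.app _ =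
          ((adjJ J).unit.app F).hom.app V ≫ 𝟙 _
        exact (Category.assoc _ _ _).symm.trans ((congrArg (· ≫ _) (r1 V.unop)).trans
          ((r2 V.unop).trans (Category.comp_id _).symm)))
      inv_hom_id := by
        have h : (ObjectProperty.homMk (inv ≫ hom).hom :
            (BigSite.piEtPull Scheme.etalePrecoverage S).obj F ⟶ (BigSite.piEtPull Scheme.etalePrecoverage S).obj F) = 𝟙 _ := by
          refine ((BigSite.piEtAdj Scheme.etalePrecoverage S).homEquiv F _).injective ?_
          rw [Adjunction.homEquiv_unit, Adjunction.homEquiv_unit]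
          ext1; ext1; funext V
          show ((BigSite.piEtAdj Scheme.etalePrecoverage S).unit.app F).hom.app V ≫ inv.hom.app _ ≫ hom.hom.app _ =
            ((BigSite.piEtAdj Scheme.etalePrecoverage S).unit.app F).hom.app V ≫ 𝟙 _
          exact (Category.assoc _ _ _).symm.trans ((congrArg (· ≫ _) (r2 V.unop)).trans
            ((r1 V.unop).trans (Category.comp_id _).symm))
        ext1
        exact congr(($h).hom) }
  exact ⟨e⟩

include hle hsh in
theorem sections_iso {T : Scheme.{u}} (f : T ⟶ S) :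
    Nonempty (((pullJ J).obj F).obj.obj (op (Over.mk f)) ≅
      ((EtCoh.pull f).obj F).obj.obj (op (EtCoh.top T))) := by
  obtain ⟨e⟩ := pull_iso F J hle hsh
  exact ⟨((sheafToPresheaf _ _).mapIso e).app (op (Over.mk f)) ≪≫
    ((BigSite.piEtPull Scheme.etalePrecoverage S).obj F).obj.mapIso
      (Over.isoMk (Iso.refl _) ((Category.id_comp _).trans (Category.id_comp _).symm) :
        (Over.map f).obj ((EtFppf.a T).obj (EtCoh.top T)) ≅ Over.mk f).op ≪≫
    (((sheafToPresheaf _ _).mapIso (resAlongPiPullIso f F)).app (op (EtCoh.top T))).symm⟩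

end Generic

variable {X Y : Scheme.{u}} (f : X ⟶ Y) [IsProper f] (F : EtCoh.Ab X)

theorem aHPull_push_iso [AHCont X] [AHCont Y] [PullHCont f] :
    Nonempty ((aHPull Y).obj ((EtCoh.push f).obj F) ≅ (pushBigH f).obj ((aHPull X).obj F)) := by
  haveI := H0PBC.isIso_theta_proper f F
  obtain ⟨eY⟩ := pull_iso ((EtCoh.push f).obj F) (Jh Y) etale_le_h (isSheaf_jh (etInduced_piP _))
  obtain ⟨eX⟩ := pull_iso F (Jh X) etale_le_h (isSheaf_jh (etInduced_piP F))
  let e : piJ ((EtCoh.push f).obj F) (Jh Y) (isSheaf_jh (etInduced_piP _)) ≅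
      (pushBigH f).obj (piJ F (Jh X) (isSheaf_jh (etInduced_piP F))) :=
    (fullyFaithfulSheafToPresheaf _ _).preimageIso
      (show (piJ ((EtCoh.push f).obj F) (Jh Y) (isSheaf_jh (etInduced_piP _))).obj ≅ _ from
        (sheafToPresheaf (QuotSh.J Scheme.etalePrecoverage Y) _).mapIso (asIso (theta f F)))
  exact ⟨eY ≪≫ e ≪≫ (pushBigH f).mapIso eX.symm⟩

theorem aPhPull_push_iso [APhCont X] [APhCont Y] [PullPhCont f] :
    Nonempty ((aPhPull Y).obj ((EtCoh.push f).obj F) ≅ (pushBigPh f).obj ((aPhPull X).obj F)) := by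
  haveI := H0PBC.isIso_theta_proper f F
  obtain ⟨eY⟩ := pull_iso ((EtCoh.push f).obj F) (Jph Y) etale_le_ph (isSheaf_jph (etInduced_piP _))
  obtain ⟨eX⟩ := pull_iso F (Jph X) etale_le_ph (isSheaf_jph (etInduced_piP F))
  let e : piJ ((EtCoh.push f).obj F) (Jph Y) (isSheaf_jph (etInduced_piP _)) ≅
      (pushBigPh f).obj (piJ F (Jph X) (isSheaf_jph (etInduced_piP F))) :=
    (fullyFaithfulSheafToPresheaf _ _).preimageIso
      (show (piJ ((EtCoh.push f).obj F) (Jph Y) (isSheaf_jph (etInduced_piP _))).obj ≅ _ from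
        (sheafToPresheaf (QuotSh.J Scheme.etalePrecoverage Y) _).mapIso (asIso (theta f F)))
  exact ⟨eY ≪≫ e ≪≫ (pushBigPh f).mapIso eX.symm⟩

end Groth.Agent.BigSiteLib.VPull
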